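import Mathlib
import Cfsg.Agent.H378.RegFin

/-!
# Arithmetic for the rows `G₂(q)`, `³D₄(q)` of S3988 (helper963)
-/

set_option autoImplicit false

namespace Cfsg.Agent.H963.PQR

open Cfsg.Agent.H378.ExcNear Cfsg.Agent.H378.RegFin Cfsg.Agent.H378

theorem od_three {q b : ℕ} (hb : b.Prime) (hb3 : b ≠ 3) (hd : b ∣ q ^ 2 + q + 1) : orderOf ((q : ℕ) : ZMod b) = 3 := by
  have : Fact b.Prime := ⟨hb⟩
  have : Fact (Nat.Prime 3) := ⟨Nat.prime_three⟩
  have h1 : ((q : ZMod b)) ^ 2 + q + 1 = 0 := by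
    have := (ZMod.natCast_eq_zero_iff (q ^ 2 + q + 1) b).2 hd
    push_cast at this
    exact this
  refine orderOf_eq_prime (by linear_combination ((q : ZMod b) - 1) * h1) ?_
  intro h2
  rw [h2] at h1
  have h3 : ((3 : ℕ) : ZMod b) = 0 := by
    push_cast
    linear_combination h1
  exact hb3 ((Nat.prime_dvd_prime_iff_eq hb Nat.prime_three).1 ((ZMod.natCast_eq_zero_iff 3 b).1 h3))

theorem od_six {q b : ℕ} (hb : b.Prime) (hb3 : b ≠ 3) (hd : b ∣ q ^ 2 - q + 1) : orderOf ((q : ℕ) : ZMod b) = 6 := by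
  have : Fact b.Prime := ⟨hb⟩
  have hle : q ≤ q ^ 2 := by nlinarith [Nat.zero_le q, sq_nonneg q, Nat.le_self_pow (n := 2) (by norm_num) q]
  have hb2 : b ≠ 2 := by
    rintro rfl
    have h1 : Even (q ^ 2 - q) := by
      rw [Nat.even_sub hle, Nat.even_pow' (by norm_num)]
    exact absurd (even_iff_two_dvd.2 hd) (Nat.not_even_iff_odd.2 h1.add_one)
  have h1 : ((q : ZMod b)) ^ 2 - q + 1 = 0 := by
    have := (ZMod.natCast_eq_zero_iff (q ^ 2 - q + 1) b).2 hd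
    rw [Nat.cast_add, Nat.cast_sub hle] at this
    push_cast at this
    exact this
  have h3 : (q : ZMod b) ^ 3 = -1 := by linear_combination ((q : ZMod b) + 1) * h1
  have hne : (-1 : ZMod b) ≠ 1 := by
    intro h
    have h4 : ((2 : ℕ) : ZMod b) = 0 := by
      push_cast
      linear_combination -h
    exact hb2 ((Nat.prime_dvd_prime_iff_eq hb Nat.prime_two).1 ((ZMod.natCast_eq_zero_iff 2 b).1 h4))
  refine orderOf_eq_of_pow_and_pow_div_prime (by norm_num) (by linear_combination ((q : ZMod b) ^ 3 - 1) * h3) ?_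
  intro s hs hsd
  have hs6 : s = 2 ∨ s = 3 := by
    have h5 : s ∣ 2 * 3 := hsd
    rcases (hs.dvd_mul).1 h5 with h6 | h6
    · exact Or.inl ((Nat.prime_dvd_prime_iff_eq hs Nat.prime_two).1 h6)
    · exact Or.inr ((Nat.prime_dvd_prime_iff_eq hs Nat.prime_three).1 h6)
  rcases hs6 with rfl | rfl
  · show (q : ZMod b) ^ 3 ≠ 1
    rw [h3]
    exact hne
  · show (q : ZMod b) ^ 2 ≠ 1
    intro h4
    have h5 : (q : ZMod b) = 2 := by linear_combination h4 - h1
    rw [h5] at h4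
    have h6 : ((3 : ℕ) : ZMod b) = 0 := by
      push_cast
      linear_combination h4
    exact hb3 ((Nat.prime_dvd_prime_iff_eq hb Nat.prime_three).1 ((ZMod.natCast_eq_zero_iff 3 b).1 h6))

theorem not_dvd_cyc3 {q r : ℕ} (hr : r.Prime) (hrq : r ∣ q) :
    ¬ r ∣ ((Polynomial.cyclotomic 3 ℤ).eval ((q : ℕ) : ℤ)).natAbs := by
  intro h
  have h1 := Int.natCast_dvd.2 h
  have h2 : (r : ℤ) ∣ (q : ℤ) := Int.natCast_dvd_natCast.2 hrq
  rw [Polynomial.cyclotomic_three] at h1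
  simp only [Polynomial.eval_add, Polynomial.eval_pow, Polynomial.eval_X, Polynomial.eval_one] at h1
  have h3 : (r : ℤ) ∣ 1 := by
    have h4 := dvd_sub h1 (Dvd.dvd.mul_left h2 ((q : ℤ) + 1))
    have e : (q : ℤ) ^ 2 + q + 1 - (q + 1) * q = 1 := by ring
    rwa [e] at h4
  exact hr.one_lt.ne' (Nat.dvd_one.1 (Int.natCast_dvd_natCast.1 (by exact_mod_cast h3)))

theorem not_dvd_cyc6 {q r : ℕ} (hr : r.Prime) (hrq : r ∣ q) :
    ¬ r ∣ ((Polynomial.cyclotomic 6 ℤ).eval ((q : ℕ) : ℤ)).natAbs := by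
  intro h
  have h1 := Int.natCast_dvd.2 h
  have h2 : (r : ℤ) ∣ (q : ℤ) := Int.natCast_dvd_natCast.2 hrq
  rw [Polynomial.cyclotomic_six] at h1
  simp only [Polynomial.eval_add, Polynomial.eval_sub, Polynomial.eval_pow, Polynomial.eval_X,
    Polynomial.eval_one] at h1
  have h3 : (r : ℤ) ∣ 1 := by
    have h4 := dvd_sub h1 (Dvd.dvd.mul_left h2 ((q : ℤ) - 1))
    have e : (q : ℤ) ^ 2 - q + 1 - (q - 1) * q = 1 := by ring
    rwa [e] at h4
  exact hr.one_lt.ne' (Nat.dvd_one.1 (Int.natCast_dvd_natCast.1 (by exact_mod_cast h3)))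

/-- the coprimality of the two cyclotomic values -/
theorem ne_of_dvd {q p b : ℕ} (hp : p.Prime) (hp3 : p ≠ 3) (hpd : p ∣ q ^ 2 - q + 1) (hb : b.Prime) (hb3 : b ≠ 3)
    (hbd : b ∣ q ^ 2 + q + 1) : p ≠ b := by
  rintro rfl
  have h1 := od_three hb hb3 hbd
  have h2 := od_six hp hp3 hpd
  omega

end Cfsg.Agent.H963.PQR
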