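import Mathlib
import Cfsg.Agent.H963.PQR.Arith
import Cfsg.Agent.H562.PQR.GowRoot
import Cfsg.Agent.H148.Oct.SepG2
import Cfsg.Agent.H161.G2Elems
import Cfsg.Agent.H100.AltSyl.PslPts
import Cfsg.Agent.S0242
import Cfsg.Agent.S0249
import Cfsg.Agent.S0280
import Cfsg.Agent.S1055
import Cfsg.Agent.S1059
import Cfsg.Agent.S2100
import Cfsg.Agent.S2102

/-!
# The row `G₂(q)`, `q ≥ 4`, of S3988 (helper963)

* `notMin_g2` : `p ∣ q (q² - 1) (q³ - 1)`: `SL₃(q) ≤ G₂(q)`;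
* `trip_g2` : `p ∣ q² - q + 1`, `p ≠ 3`, `q ≥ 4`: a triple of type `(p, b, 2)`, `b ∣ q² + q + 1`.
-/

set_option autoImplicit false

namespace Cfsg.Agent.H963.PQR

open Cfsg Cfsg.Lie Cfsg.Agent.H562.PQR Cfsg.Agent.H161.Oct
open Cfsg.Agent.H378.ExcAdj Cfsg.Agent.H378.RegFin Cfsg.Agent.BpExc.RowsUntw Cfsg.Agent.BpExc.FamInst
open Cfsg.Agent.H80.Fpf (IsCover MultDvd)
open Matrix (SpecialLinearGroup ProjectiveSpecialLinearGroup)

universe u

section PSL

variable {F : Type u} [Field F] [Fintype F]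

theorem card_SL3 : Nat.card (SpecialLinearGroup (Fin 3) F) =
    Fintype.card F ^ 3 * (Fintype.card F ^ 2 - 1) * (Fintype.card F ^ 3 - 1) := by
  have h1 := S0242.result (F := F) rfl 3 (by norm_num)
  have hq : 2 ≤ Fintype.card F := Fintype.one_lt_card
  rw [Fin.prod_univ_three] at h1
  have h3 : Fintype.card F ^ 3 - Fintype.card F ^ 1 = (Fintype.card F ^ 2 - 1) * Fintype.card F := by
    rw [Nat.sub_mul, one_mul, pow_one]; congr 1
  have h3' : Fintype.card F ^ 3 - Fintype.card F ^ 2 = (Fintype.card F - 1) * Fintype.card F ^ 2 := by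
    rw [Nat.sub_mul, one_mul]; congr 1; ring
  simp only [Fin.val_zero, Fin.val_one, Fin.val_two, pow_zero] at h1
  rw [h3, h3'] at h1
  have h4 : (Fintype.card F - 1) * Nat.card (SpecialLinearGroup (Fin 3) F) =
      (Fintype.card F - 1) * (Fintype.card F ^ 3 * (Fintype.card F ^ 2 - 1) * (Fintype.card F ^ 3 - 1)) := by
    rw [h1]; ring
  exact Nat.eq_of_mul_eq_mul_left (by omega) h4

/-- the primes dividing `|PSL₃(q)|` -/
theorem dvd_card_psl3 {p : ℕ} (hp : p.Prime)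
    (hd : p ∣ Fintype.card F ^ 3 * (Fintype.card F ^ 2 - 1) * (Fintype.card F ^ 3 - 1)) :
    p ∣ Nat.card (ProjectiveSpecialLinearGroup (Fin 3) F) := by
  have h1 := Subgroup.card_eq_card_quotient_mul_card_subgroup (Subgroup.center (SpecialLinearGroup (Fin 3) F))
  rw [S0280.card_center_SL (by norm_num), card_SL3] at h1
  have h1' : Fintype.card F ^ 3 * (Fintype.card F ^ 2 - 1) * (Fintype.card F ^ 3 - 1) =
    Nat.card (ProjectiveSpecialLinearGroup (Fin 3) F) * Nat.gcd 3 (Fintype.card F - 1) := h1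
  rw [h1'] at hd
  rcases hp.dvd_mul.1 hd with h2 | h2
  · exact h2
  · have h3 : p = 3 := (Nat.prime_dvd_prime_iff_eq hp Nat.prime_three).1 (h2.trans (Nat.gcd_dvd_left _ _))
    subst h3
    have h4 : 3 ∣ Fintype.card F - 1 := h2.trans (Nat.gcd_dvd_right _ _)
    have hg : Nat.gcd 3 (Fintype.card F - 1) = 3 := Nat.gcd_eq_left h4
    rw [hg] at h1'
    have hF : 1 ≤ Fintype.card F := Fintype.card_pos
    have h5 : 3 ∣ Fintype.card F ^ 2 - 1 := by
      refine h4.trans ?_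
      have := Nat.sub_dvd_pow_sub_pow (Fintype.card F) 1 2
      rwa [one_pow] at this
    have h6 : 3 ∣ Fintype.card F ^ 3 - 1 := by
      refine h4.trans ?_
      have := Nat.sub_dvd_pow_sub_pow (Fintype.card F) 1 3
      rwa [one_pow] at this
    have h7 : 3 * 3 ∣ Nat.card (ProjectiveSpecialLinearGroup (Fin 3) F) * 3 := by
      rw [← h1', mul_assoc]
      exact Dvd.dvd.mul_left (Nat.mul_dvd_mul h5 h6) _
    exact Nat.dvd_of_mul_dvd_mul_right (by norm_num) h7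

end PSL

variable {F : Type} [Field F] [Fintype F]

theorem exists_of_card (h3 : 3 ≤ Fintype.card F) : ∃ a : F, a ≠ 0 ∧ a ≠ 1 :=
  Cfsg.Agent.H148.Oct.exists_of_card h3

/-- `SL₃(q) → G₂(q)` -/
theorem exists_sl3 : ∃ f : SpecialLinearGroup (Fin 3) F →* ↥(chevG2.group F), Function.Injective f := by
  obtain ⟨e⟩ := Cfsg.Agent.H148.Oct.nonempty_equiv F
  refine ⟨e.toMonoidHom.comp ((slM F).codRestrict (AutO F) slM_mem), ?_⟩
  refine e.injective.comp ?_
  intro a b hab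
  exact slM_inj (congrArg Subtype.val hab)

/-- **`p ∣ q (q² - 1) (q³ - 1)`** -/
theorem notMin_g2 {p : ℕ} (hp : p.Prime)
    (hd : p ∣ Fintype.card F ^ 3 * (Fintype.card F ^ 2 - 1) * (Fintype.card F ^ 3 - 1)) :
    NotMin p ↥(chevG2.group F) := by
  obtain ⟨f, hf⟩ := exists_sl3 (F := F)
  have hs : IsSimpleGroup (ProjectiveSpecialLinearGroup (Fin 3) F) := S0249.result 3 le_rfl
  have hnt : Nontrivial (Fin 3) := inferInstance
  have hna : ∃ x y : ProjectiveSpecialLinearGroup (Fin 3) F, x * y ≠ y * x := by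
    have := Cfsg.Agent.H100.AltSyl.psl_not_comm (ι := Fin 3) (F := F)
    push Not at this
    exact this
  refine NotMin.of_hom_lt hna hp (dvd_card_psl3 hp hd) f
    (QuotientGroup.mk' (Subgroup.center (SpecialLinearGroup (Fin 3) F))) (QuotientGroup.mk'_surjective _) ?_ ?_
  · rw [(MonoidHom.ker_eq_bot_iff f).2 hf]
    exact bot_le
  · rw [card_SL3, S1059.result rfl]
    have hq : 2 ≤ Fintype.card F := Fintype.one_lt_card
    have h1 : 0 < Fintype.card F ^ 2 - 1 := by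
      have : 2 ^ 2 ≤ Fintype.card F ^ 2 := Nat.pow_le_pow_left hq 2
      omega
    have h2 : Fintype.card F ^ 3 < Fintype.card F ^ 6 := Nat.pow_lt_pow_right (by omega) (by norm_num)
    have h3 : 0 < Fintype.card F ^ 3 - 1 := by
      have : 2 ^ 3 ≤ Fintype.card F ^ 3 := Nat.pow_le_pow_left hq 3
      omega
    exact Nat.mul_lt_mul'' (Nat.mul_lt_mul_of_pos_right h2 h1) (by omega)

theorem card_dvd_iff {p : ℕ} (hp : p.Prime) (hd : p ∣ Nat.card ↥(chevG2.group F)) :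
    p ∣ Fintype.card F ^ 3 * (Fintype.card F ^ 2 - 1) * (Fintype.card F ^ 3 - 1) ∨
      (p ≠ 3 ∧ p ∣ Fintype.card F ^ 2 - Fintype.card F + 1) := by
  rw [S1059.result rfl] at hd
  obtain ⟨q, hq⟩ : ∃ q, q = Fintype.card F := ⟨_, rfl⟩
  rw [← hq] at hd ⊢
  have hq2 : 2 ≤ q := by rw [hq]; exact Fintype.one_lt_card
  obtain ⟨n, rfl⟩ : ∃ n, q = n + 1 := ⟨q - 1, by omega⟩
  have e6 : (n + 1) ^ 6 - 1 = ((n + 1) ^ 3 - 1) * ((n + 2) * ((n + 1) ^ 2 - (n + 1) + 1)) := by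
    have e1 : (n + 1) ^ 2 - (n + 1) + 1 = n ^ 2 + n + 1 := by
      have : (n + 1) ^ 2 = n ^ 2 + n + (n + 1) := by ring
      omega
    have e2 : (n + 1) ^ 3 - 1 = n ^ 3 + 3 * n ^ 2 + 3 * n := by
      have : (n + 1) ^ 3 = n ^ 3 + 3 * n ^ 2 + 3 * n + 1 := by ring
      omega
    rw [e1, e2]
    have : (n + 1) ^ 6 = (n ^ 3 + 3 * n ^ 2 + 3 * n) * ((n + 2) * (n ^ 2 + n + 1)) + 1 := by ring
    omega
  have e2 : n + 2 ∣ (n + 1) ^ 2 - 1 := by
    refine ⟨n, ?_⟩
    have : (n + 1) ^ 2 = (n + 2) * n + 1 := by ring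
    omega
  by_cases h : p ∣ (n + 1) ^ 3 * ((n + 1) ^ 2 - 1) * ((n + 1) ^ 3 - 1)
  · exact Or.inl h
  · right
    have a1 : ¬ p ∣ (n + 1) := fun h1 => h ((dvd_pow h1 (by norm_num)).mul_right _ |>.mul_right _)
    have a2 : ¬ p ∣ (n + 1) ^ 2 - 1 := fun h1 => h ((h1.mul_left _).mul_right _)
    have a3 : ¬ p ∣ (n + 1) ^ 3 - 1 := fun h1 => h (h1.mul_left _)
    have a4 : ¬ p ∣ n + 2 := fun h1 => a2 (h1.trans e2)
    rw [e6] at hd
    rcases hp.dvd_mul.1 hd with h1 | h1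
    · rcases hp.dvd_mul.1 h1 with h2 | h2
      · exact absurd (hp.dvd_of_dvd_pow h2) a1
      · exact absurd h2 a2
    · rcases hp.dvd_mul.1 h1 with h2 | h2
      · exact absurd h2 a3
      · rcases hp.dvd_mul.1 h2 with h3 | h3
        · exact absurd h3 a4
        · refine ⟨?_, h3⟩
          rintro rfl
          have h4 : (n + 1) ^ 2 - (n + 1) + 1 = n ^ 2 + n + 1 := by
            have : (n + 1) ^ 2 = n ^ 2 + n + (n + 1) := by ring
            omega
          rw [h4] at h3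
          have h5 : n % 3 < 3 := Nat.mod_lt _ (by norm_num)
          have h6 : (n ^ 2 + n + 1) % 3 = 0 := Nat.mod_eq_zero_of_dvd h3
          have h7 : (n ^ 2 + n + 1) % 3 = ((n % 3) ^ 2 + n % 3 + 1) % 3 := by
            simp [Nat.add_mod, Nat.pow_mod]
          rw [h7] at h6
          have h8 : n % 3 = 1 := by
            interval_cases (n % 3) <;> omega
          exact a4 (by omega)

/-- centralisers of the elements of order `p ∣ q² - q + 1` -/
theorem cent_six {x : ↥(chevG2.group F)} {p : ℕ} (hp : p.Prime) (hp3 : p ≠ 3)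
    (hd : p ∣ Fintype.card F ^ 2 - Fintype.card F + 1) (hx : orderOf x = p) {r : ℕ} (hr : r.Prime)
    (hrF : r ∣ Fintype.card F) : ¬ r ∣ Nat.card ↥(Subgroup.centralizer ({x} : Set ↥(chevG2.group F))) := by
  intro h
  have h1 := (cent_od g2T inv_G2 one_ne_zero hp hx (m := 6) (by
    rw [Nat.card_eq_fintype_card]
    exact od_six hp hp3 hd) (by decide) (by norm_num)).2
  rw [Nat.card_eq_fintype_card (α := F)] at h1
  exact not_dvd_cyc6 hr hrF (h.trans h1)

/-- centralisers of the elements of order `b ∣ q² + q + 1` -/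
theorem cent_three {x : ↥(chevG2.group F)} {p : ℕ} (hp : p.Prime) (hp3 : p ≠ 3)
    (hd : p ∣ Fintype.card F ^ 2 + Fintype.card F + 1) (hx : orderOf x = p) {r : ℕ} (hr : r.Prime)
    (hrF : r ∣ Fintype.card F) : ¬ r ∣ Nat.card ↥(Subgroup.centralizer ({x} : Set ↥(chevG2.group F))) := by
  intro h
  have h1 := (cent_od g2T inv_G2 one_ne_zero hp hx (m := 3) (by
    rw [Nat.card_eq_fintype_card]
    exact od_three hp hp3 hd) (by decide) (by norm_num)).2
  rw [Nat.card_eq_fintype_card (α := F)] at h1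
  exact not_dvd_cyc3 hr hrF (h.trans h1)

theorem lie_g2 (p : ℕ) [CharP F p] (h : 3 ≤ Fintype.card F) : IsLieTypeChar p ↥(chevG2.group F) :=
  Or.inr (Or.inr (Or.inr (Or.inr (Or.inr (Or.inr (Or.inl
    ⟨F, inferInstance, inferInstance, inferInstance, Or.inl ⟨h, ⟨MulEquiv.refl _⟩⟩⟩))))))

/-- the multiplier of `G₂(q)`, `q ≥ 4` -/
theorem mult_g2 (h4 : 4 ≤ Fintype.card F) : MultDvd ↥(chevG2.group F) 2 := by
  by_cases h5 : Fintype.card F = 4
  · exact Cfsg.Agent.H80.Fpf.multDvd_of_cyclic (by norm_num) (S2102.result h5)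
  · have h1 := Cfsg.Agent.H80.Fpf.multDvd_of_cyclic one_ne_zero (S2100.result (F := F) (by omega))
    intro Γ _ _ π hπ
    exact (h1 Γ π hπ).trans (one_dvd 2)

/-- triples of type `(p, b, 2)` from elements with centralisers of order prime to the characteristic -/
theorem trip_of_reg {G : Type*} [Group G] [Finite G] {r : ℕ} (hr : r.Prime) (hG : IsLieTypeChar r G) {m : ℕ}
    (hm : MultDvd G m) (hm2 : ∀ s : ℕ, s.Prime → s ∣ m → s = 2) {p b : ℕ} (hp : p.Prime) (hb : b.Prime) (hpb : p ≠ b)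
    (hp2 : p ≠ 2) (hb2 : b ≠ 2) (h2 : 2 ∣ Nat.card G) {x y : G} (hxp : PE p x) (hyb : PE b y)
    (hx : ¬ r ∣ Nat.card ↥(Subgroup.centralizer ({x} : Set G)))
    (hy : ¬ r ∣ Nat.card ↥(Subgroup.centralizer ({y} : Set G))) : Trip p G := by
  obtain ⟨x', y', z', h3, h4, h5, h6⟩ : ∃ x y z : G, PE p x ∧ PE b y ∧ PE 2 z ∧ x * y * z = 1 := by
    by_cases hr2 : r = 2
    · subst hr2
      exact tri_char hr hG hp hb hpb hxp hyb hx hy
    · exact tri_reg hr hG Nat.prime_two (Ne.symm hr2) h2 hxp hyb hx hy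
  exact ⟨p, b, 2, Or.inl rfl, Or.inr (Or.inr rfl),
    TripABC.of_mult hm (fun s hs hsm => Or.inl (hm2 s hs hsm)) hp hb Nat.prime_two hpb hp2 hb2 h3 h4 h5 h6⟩

/-- **`p ∣ q² - q + 1`, `q ≥ 4`** -/
theorem trip_g2 (h4 : 4 ≤ Fintype.card F) {p : ℕ} (hp : p.Prime) (hp2 : p ≠ 2) (hp3 : p ≠ 3)
    (hd : p ∣ Fintype.card F ^ 2 - Fintype.card F + 1) : Trip p ↥(chevG2.group F) := by
  obtain ⟨r, hrc⟩ := CharP.exists F
  have hr : r.Prime := CharP.char_is_prime F r
  have hrF : r ∣ Fintype.card F := (CharP.cast_eq_zero_iff F r (Fintype.card F)).1 (by simp)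
  obtain ⟨b, hb, hb3, hb2, hbd⟩ := Cfsg.Agent.H378.ExcNear.exists_three (q := Fintype.card F) (by omega)
  have hcard := S1059.result (F := F) rfl
  obtain ⟨q, hq⟩ : ∃ q, q = Fintype.card F := ⟨_, rfl⟩
  obtain ⟨n, hn⟩ : ∃ n, q = n + 1 := ⟨q - 1, by omega⟩
  have e1 : (n + 1) ^ 2 - (n + 1) + 1 = n ^ 2 + n + 1 := by
    have : (n + 1) ^ 2 = n ^ 2 + n + (n + 1) := by ring
    omega
  have e6 : (n + 1) ^ 6 - 1 = (n ^ 2 + n + 1) * ((n + 1) ^ 2 + (n + 1) + 1) * (n * (n + 2)) := by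
    have : (n + 1) ^ 6 = (n ^ 2 + n + 1) * ((n + 1) ^ 2 + (n + 1) + 1) * (n * (n + 2)) + 1 := by ring
    omega
  have hpG : p ∣ Nat.card ↥(chevG2.group F) := by
    rw [hcard]
    refine Dvd.dvd.mul_left ?_ _
    rw [← hq, hn] at hd ⊢
    rw [e1] at hd
    rw [e6]
    exact (hd.mul_right _).mul_right _
  have hbG : b ∣ Nat.card ↥(chevG2.group F) := by
    rw [hcard]
    refine Dvd.dvd.mul_left ?_ _
    rw [← hq, hn] at hbd ⊢
    rw [e6]
    exact (hbd.mul_left _).mul_right _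
  have h2G : 2 ∣ Nat.card ↥(chevG2.group F) := by
    rw [hcard, ← hq, hn]
    rcases Nat.even_or_odd (n + 1) with h | h
    · exact ((dvd_pow (even_iff_two_dvd.1 h) (by norm_num)).mul_right _).mul_right _
    · refine (Dvd.dvd.mul_left ?_ _).mul_right _
      have h5 : Even ((n + 1) ^ 2 - 1) := by
        have h6 : Odd ((n + 1) ^ 2) := h.pow
        obtain ⟨k, hk⟩ := h6
        exact ⟨k, by omega⟩
      exact even_iff_two_dvd.1 h5
  have : Fact p.Prime := ⟨hp⟩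
  have : Fact b.Prime := ⟨hb⟩
  obtain ⟨x, hx⟩ := exists_prime_orderOf_dvd_card' p hpG
  obtain ⟨y, hy⟩ := exists_prime_orderOf_dvd_card' b hbG
  exact trip_of_reg hr (lie_g2 r (by omega)) (mult_g2 h4)
    (fun s hs hs2 => (Nat.prime_dvd_prime_iff_eq hs Nat.prime_two).1 hs2) hp hb (ne_of_dvd hp hp3 hd hb hb3 hbd) hp2
    hb2 h2G (PE.of_orderOf hp hx) (PE.of_orderOf hb hy) (cent_six hp hp3 hd hx hr hrF)
    (cent_three hb hb3 hbd hy hr hrF)

end Cfsg.Agent.H963.PQR
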